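import Groth.Agent.Lib.FinAffine12.Proj
import Groth.Agent.Lib.ProjSpace.Basic
import Groth.Agent.Lib.VarDim.Top
import Mathlib.AlgebraicGeometry.Noetherian
import Groth.Prelude.Def_CohB1

/-!
# Covering a scheme of dimension `r` by `r + 1` good opens
-/

universe u

set_option autoImplicit false

open AlgebraicGeometry CategoryTheory TopologicalSpace

namespace Groth.Agent.AffCover15

variable {X : Scheme.{u}}

theorem exists_cover_of_height_lt [NoetherianSpace X] {T : Set X} (hT : IsClosed T)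
    (P : X.Opens → Prop) (hP : ∀ E : Set X, E.Finite → E ⊆ Tᶜ → ∃ U, P U ∧ E ⊆ (U : Set X))
    (r : ℕ) (Z : Set X) (hZ : IsClosed Z) (hh : ∀ z ∈ Z, z ∉ T → Order.height z < (r : ℕ∞)) :
    ∃ U : Fin r → X.Opens, (∀ i, P (U i)) ∧ Z \ T ⊆ ⋃ i, (U i : Set X) := by
  induction r generalizing Z with
  | zero =>
    exact ⟨Fin.elim0, fun i => i.elim0, fun z hz => absurd (hh z hz.1 hz.2) not_lt_zero⟩
  | succ r ih =>
    obtain ⟨S, hSf, hSc, hSi, hSU⟩ := NoetherianSpace.exists_finite_set_isClosed_irreducible hZ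
    let E : Set X := {g | g ∉ T ∧ ∃ t, ∃ h : t ∈ S, (hSi t h).genericPoint = g}
    have hEf : E.Finite := by
      haveI : Finite S := hSf.to_subtype
      refine (Set.finite_range fun t : S => (hSi t.1 t.2).genericPoint).subset ?_
      rintro g ⟨-, t, h, rfl⟩
      exact ⟨⟨t, h⟩, rfl⟩
    obtain ⟨U, hPU, hEU⟩ := hP E hEf fun g hg => hg.1
    obtain ⟨V, hPV, hV⟩ := ih (Z \ (U : Set X)) (hZ.sdiff U.isOpen) fun z hz hzT => by
      obtain ⟨t, htS, hzt⟩ : z ∈ ⋃₀ S := hSU ▸ hz.1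
      have hsp : (hSi t htS).genericPoint ⤳ z := by
        rw [specializes_iff_mem_closure, (hSi t htS).closure_genericPoint (hSc t htS)]
        exact hzt
      have hgT : (hSi t htS).genericPoint ∉ T := fun h => hzT (hsp.mem_closed hT h)
      have hgU : (hSi t htS).genericPoint ∈ U := hEU ⟨hgT, t, htS, rfl⟩
      have hgZ : (hSi t htS).genericPoint ∈ Z := by
        rw [hSU]
        refine ⟨t, htS, ?_⟩
        have h := (hSi t htS).closure_genericPoint (hSc t htS)
        exact h.subset (subset_closure rfl)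
      have hlt : z < (hSi t htS).genericPoint :=
        VarDim.lt_of_specializes_ne hsp fun e => hz.2 (e ▸ hgU)
      have h1 := hh _ hgZ hgT
      have h2 := Order.height_add_one_le hlt
      have h3 : Order.height z + 1 < (r : ℕ∞) + 1 := lt_of_le_of_lt h2 (by simpa using h1)
      exact lt_of_add_lt_add_right h3
    refine ⟨Fin.cons U V, fun i => Fin.cases hPU hPV i, fun z hz => ?_⟩
    by_cases hzU : z ∈ U
    · exact Set.mem_iUnion.2 ⟨0, hzU⟩
    · obtain ⟨i, hi⟩ := Set.mem_iUnion.1 (hV ⟨⟨hz.1, hzU⟩, hz.2⟩)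
      exact Set.mem_iUnion.2 ⟨i.succ, by simpa using hi⟩

/-- If every finite set of points outside the closed set `T` lies in a good open and `dim X = r`,
then `r + 1` good opens cover `X ∖ T`. -/
theorem exists_cover_card_succ [NoetherianSpace X] {T : Set X} (hT : IsClosed T)
    (P : X.Opens → Prop) (hP : ∀ E : Set X, E.Finite → E ⊆ Tᶜ → ∃ U, P U ∧ E ⊆ (U : Set X))
    (r : ℕ) (hX : topologicalKrullDim ↥X = r) :
    ∃ U : Fin (r + 1) → X.Opens, (∀ i, P (U i)) ∧ Tᶜ ⊆ ⋃ i, (U i : Set X) := by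
  obtain ⟨U, hU, hcov⟩ := exists_cover_of_height_lt hT P hP (r + 1) Set.univ isClosed_univ
    fun z _ _ => by
      have h : ((Order.height z : ℕ∞) : WithBot ℕ∞) ≤ ((r : ℕ∞) : WithBot ℕ∞) := by
        rw [VarDim.scheme_dim_eq_iSup_height] at hX
        exact (le_iSup (fun x : X => ((Order.height x : ℕ∞) : WithBot ℕ∞)) z).trans hX.le
      exact lt_of_le_of_lt (WithBot.coe_le_coe.1 h) (by exact_mod_cast Nat.lt_succ_self r)
  exact ⟨U, hU, fun z hz => hcov ⟨trivial, hz⟩⟩

theorem exists_affine_cover_of_immersion_proj {R A : Type u} [CommRing R] [CommRing A] [Algebra R A]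
    (𝒜 : ℕ → Submodule R A) [GradedAlgebra 𝒜] (ι : X ⟶ Proj 𝒜) [IsImmersion ι]
    [NoetherianSpace X] (r : ℕ) (hX : topologicalKrullDim ↥X = r) :
    ∃ U : Fin (r + 1) → X.Opens, (∀ i, IsAffineOpen (U i)) ∧ ⨆ i, U i = ⊤ := by
  obtain ⟨U, hU, hcov⟩ := exists_cover_card_succ (T := ∅) isClosed_empty IsAffineOpen
    (fun E hE _ => FinAffine12.exists_affineOpen_of_finite_proj 𝒜 ι E hE) r hX
  refine ⟨U, hU, top_le_iff.1 fun z _ => ?_⟩
  obtain ⟨i, hi⟩ := Set.mem_iUnion.1 (hcov (Set.notMem_empty z))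
  exact Opens.mem_iSup.2 ⟨i, hi⟩

instance noetherianSpace_projSpace (n : ℕ) (R : Type u) [CommRing R] [IsNoetherianRing R] :
    NoetherianSpace ↥(CohB1.ProjSpace n R) := by
  haveI : IsLocallyNoetherian (CohB1.ProjSpace n R) :=
    LocallyOfFiniteType.isLocallyNoetherian (CohB1.ProjSpace.toSpec n R)
  haveI : CompactSpace ↥(CohB1.ProjSpace n R) :=
    QuasiCompact.compactSpace_of_compactSpace (CohB1.ProjSpace.toSpec n R)
  haveI : IsNoetherian (CohB1.ProjSpace n R) := {}
  infer_instance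

end Groth.Agent.AffCover15
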